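import Cfsg.Agent.H633.Ore.Co2Fix_m3
import Cfsg.Agent.H494.F22.Lin_m3
import Cfsg.Agent.H916.RG.Pair_m3
import Cfsg.Agent.Prune
set_option linter.all false
prune_inst 0x7ffffffffffefffffffffffffffffffffffffffffffffffffffffffffffffffffffffbfffffffffffffff7feffff7ffffffffffffffffffffffffffcffffffdfffffffffffffffffffffffffffffffffffffffffffffffffffffffffffffffffffffffffffff

/-!
# The class of elements of order 30 in `Co2` with power in 2B (helper345, S3509)

`g` = word 55 of helper633's list, `x2 = g ^ 15`, `x3 = g ^ 10`, `x5 = g ^ 6`; an element `c` commutes with `x2` and `x3` and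
`(x5 * c x5 c⁻¹) ^ 2 = x2` (`drop`).
-/

set_option autoImplicit false

namespace Cfsg.Agent.H345.RG.Co2K

open Cfsg Cfsg.Agent.H633.Ore Cfsg.Agent.H633.Ore.Co2

end Cfsg.Agent.H345.RG.Co2K
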